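import Cfsg.Agent.AltNine.Model
import Mathlib.NumberTheory.Zsqrtd.Basic

/-!
Tables for the model: classes, monomial data of its irreducible characters, and nine class
functions supported on the elements with a power in the translations.
-/

set_option autoImplicit false

namespace Cfsg.Agent.AltNine

/-- Packed class numbers. -/
def clsT : ℕ := 0x329ad3a5ab630c962d4731ca54a8a83a96c3258c6ace96b54631ca5524a83a98b3a56d5b4e95b14731ca5210433258c3a96c5b4e96b546398a54a8a83a5ab329ad630c95b147398a5524a83a56d3a98b6ace962d47398a5210433116b3918d6ace95b14739ca24a8a33918d3116b5b4e962d4739ca2524a3391ac391ac630c96b54639ca2210413a98b3258c6b4ca5b527398a54a8a8329ad3a56d5b0ea63126398a5524a83a96c3a5ab62cea6ad27398a5210433a56d329ad62cea6312631ca54a8a83258c3a98b6b4ca6ad2731ca5524a83a5ab3a96c5b0ea5b52731ca521043391ac3116b5b0ea6ad2739ca24a8a33116b391ac62cea5b52739ca2524a33918d3918d6b4ca6312639ca2210413a96c3a56d5acc46b08739c454a8a33a98b3a5ab634e45ac8639c45524a3329ad3258c6b0e46348739c45210413a5ab3a98b6b0e45ac8639c454a8a33a56d3a96c5acc46348739c45524a33258c329ad634e46b08739c45210413918d391ac634e463487318424a8a1391ac3918d6b0e46b08731842524a13116b3116b5acc45ac863184221040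

/-- The class number. -/
def cls (a : NH) : ℕ := tb clsT (a.v.val * 24 + a.s.val)

/-- The character table, entries `p + q √3`. -/
def charTab : List (List (ℤ × ℤ)) :=
  [ [(1, 0), (1, 0), (1, 0), (1, 0), (1, 0), (1, 0), (1, 0), (1, 0), (1, 0), (1, 0), (1, 0), (1, 0), (1, 0), (1, 0)],
    [(1, 0), (1, 0), (1, 0), (1, 0), (-1, 0), (1, 0), (-1, 0), (-1, 0), (1, 0), (-1, 0), (-1, 0), (1, 0), (1, 0), (1, 0)],
    [(2, 0), (2, 0), (2, 0), (2, 0), (0, 0), (2, 0), (0, 0), (0, 0), (2, 0), (0, 0), (0, 0), (-1, 0), (-1, 0), (-1, 0)],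
    [(3, 0), (3, 0), (-1, 0), (3, 0), (-1, 0), (-1, 0), (1, 0), (1, 0), (3, 0), (-1, 0), (-1, 0), (0, 0), (0, 0), (0, 0)],
    [(3, 0), (3, 0), (-1, 0), (3, 0), (1, 0), (-1, 0), (-1, 0), (-1, 0), (3, 0), (1, 0), (1, 0), (0, 0), (0, 0), (0, 0)],
    [(6, 0), (3, 0), (2, 0), (0, 0), (2, 0), (-1, 0), (0, 0), (0, 0), (-3, 0), (-1, 0), (-1, 0), (0, 0), (0, 0), (0, 0)],
    [(6, 0), (3, 0), (-2, 0), (0, 0), (0, 0), (1, 0), (0, 0), (0, 0), (-3, 0), (0, -1), (0, 1), (0, 0), (0, 0), (0, 0)],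
    [(6, 0), (3, 0), (2, 0), (0, 0), (-2, 0), (-1, 0), (0, 0), (0, 0), (-3, 0), (1, 0), (1, 0), (0, 0), (0, 0), (0, 0)],
    [(6, 0), (3, 0), (-2, 0), (0, 0), (0, 0), (1, 0), (0, 0), (0, 0), (-3, 0), (0, 1), (0, -1), (0, 0), (0, 0), (0, 0)],
    [(12, 0), (0, 0), (0, 0), (-3, 0), (0, 0), (0, 0), (2, 0), (-1, 0), (3, 0), (0, 0), (0, 0), (0, 0), (0, 0), (0, 0)],
    [(12, 0), (0, 0), (0, 0), (-3, 0), (0, 0), (0, 0), (-2, 0), (1, 0), (3, 0), (0, 0), (0, 0), (0, 0), (0, 0), (0, 0)],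
    [(8, 0), (-4, 0), (0, 0), (2, 0), (0, 0), (0, 0), (0, 0), (0, 0), (-1, 0), (0, 0), (0, 0), (2, 0), (-1, 0), (-1, 0)],
    [(8, 0), (-4, 0), (0, 0), (2, 0), (0, 0), (0, 0), (0, 0), (0, 0), (-1, 0), (0, 0), (0, 0), (-1, 0), (-1, 0), (2, 0)],
    [(8, 0), (-4, 0), (0, 0), (2, 0), (0, 0), (0, 0), (0, 0), (0, 0), (-1, 0), (0, 0), (0, 0), (-1, 0), (2, 0), (-1, 0)] ]

/-- For each character: a form on the translations, packed exponents of a linear character of its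
stabiliser (`12` outside) and coset representatives. -/
def monoData : List (Fin 27 × ℕ × List (Fin 24)) :=
  [ (0, 0x0, [0]),
    (0, 0x3180031800000c6000c63180031800, [0]),
    (0, 0x63108631082118c2118c6300063000, [0, 2]),
    (0, 0x6318c6318c6318c6318c000c631800, [0, 8, 16]),
    (0, 0x6318c6318c6318c6318c318c600000, [0, 8, 16]),
    (1, 0x6318c6318c6318c6318c6318c00000, [0, 4, 8, 12, 16, 20]),
    (1, 0x6318c6318c6318c6318c6318c48cc0, [0, 4, 8, 12, 16, 20]),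
    (1, 0x6318c6318c6318c6318c6318c31800, [0, 4, 8, 12, 16, 20]),
    (1, 0x6318c6318c6318c6318c6318c1a4c0, [0, 4, 8, 12, 16, 20]),
    (4, 0x6318c6318c6318c631806318c63180, [0, 1, 2, 3, 4, 5, 6, 7, 10, 11, 14, 15]),
    (4, 0x6318c6318c6318c631866318c63180, [0, 1, 2, 3, 4, 5, 6, 7, 10, 11, 14, 15]),
    (13, 0x6318c631806318c6018c6318c63180, [0, 1, 2, 3, 4, 5, 6, 7]),
    (13, 0x6318c631886318c6118c6318c63180, [0, 1, 2, 3, 4, 5, 6, 7]),
    (13, 0x6318c631846318c6218c6318c63180, [0, 1, 2, 3, 4, 5, 6, 7]) ]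

/-- The nine class functions as combinations of irreducible characters. -/
def thetaCoef : List (List (ℤ × Fin 14)) :=
  [ [(1, 6), (-1, 8)],
    [(1, 12), (-1, 13)],
    [(1, 3), (1, 4), (-1, 6)],
    [(1, 2), (1, 6), (-1, 12)],
    [(1, 0), (1, 2), (1, 4), (-1, 5)],
    [(1, 0), (1, 1), (1, 6), (-1, 11)],
    [(1, 0), (1, 3), (-1, 9), (1, 12)],
    [(1, 1), (1, 2), (1, 3), (-1, 7)],
    [(1, 1), (1, 4), (-1, 10), (1, 12)] ]

/-- The values of the nine class functions. -/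
def thetaTab : List (List (ℤ × ℤ)) :=
  [ [(0, 0), (0, 0), (0, 0), (0, 0), (0, 0), (0, 0), (0, 0), (0, 0), (0, 0), (0, -2), (0, 2), (0, 0), (0, 0), (0, 0)],
    [(0, 0), (0, 0), (0, 0), (0, 0), (0, 0), (0, 0), (0, 0), (0, 0), (0, 0), (0, 0), (0, 0), (0, 0), (-3, 0), (3, 0)],
    [(0, 0), (3, 0), (0, 0), (6, 0), (0, 0), (-3, 0), (0, 0), (0, 0), (9, 0), (0, 1), (0, -1), (0, 0), (0, 0), (0, 0)],
    [(0, 0), (9, 0), (0, 0), (0, 0), (0, 0), (3, 0), (0, 0), (0, 0), (0, 0), (0, -1), (0, 1), (0, 0), (0, 0), (-3, 0)],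
    [(0, 0), (3, 0), (0, 0), (6, 0), (0, 0), (3, 0), (0, 0), (0, 0), (9, 0), (3, 0), (3, 0), (0, 0), (0, 0), (0, 0)],
    [(0, 0), (9, 0), (0, 0), (0, 0), (0, 0), (3, 0), (0, 0), (0, 0), (0, 0), (0, -1), (0, 1), (0, 0), (3, 0), (3, 0)],
    [(0, 0), (0, 0), (0, 0), (9, 0), (0, 0), (0, 0), (0, 0), (3, 0), (0, 0), (0, 0), (0, 0), (0, 0), (0, 0), (3, 0)],
    [(0, 0), (3, 0), (0, 0), (6, 0), (0, 0), (3, 0), (0, 0), (0, 0), (9, 0), (-3, 0), (-3, 0), (0, 0), (0, 0), (0, 0)],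
    [(0, 0), (0, 0), (0, 0), (9, 0), (0, 0), (0, 0), (0, 0), (-3, 0), (0, 0), (0, 0), (0, 0), (0, 0), (0, 0), (3, 0)] ]

/-- Their inner products. -/
def gramList : List (List ℤ) :=
  [ [2, 0, -1, 1, 0, 1, 0, 0, 0],
    [0, 2, 0, -1, 0, 0, 1, 0, 1],
    [-1, 0, 3, -1, 1, -1, 1, 1, 1],
    [1, -1, -1, 3, 1, 1, -1, 1, -1],
    [0, 0, 1, 1, 4, 1, 1, 1, 1],
    [1, 0, -1, 1, 1, 4, 1, 1, 1],
    [0, 1, 1, -1, 1, 1, 4, 1, 1],
    [0, 0, 1, 1, 1, 1, 1, 4, 1],
    [0, 1, 1, -1, 1, 1, 1, 1, 4] ]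

/-- Their products with the trivial character. -/
def oneList : List ℤ := [0, 0, 0, 0, 1, 1, 1, 0, 0]

/-- The inner products as a function. -/
def gram (i j : ℕ) : ℤ := (gramList.getD i []).getD j 0

/-- The products with the trivial character as a function. -/
def oneCoef (i : ℕ) : ℤ := oneList.getD i 0

/-- Packed four-term factorisations over the four group. -/
def witT : ℕ := 0xb1800c8800a2c009b0208180098800d2c00cb020518006880072c0020000b0c00d08009ac00a302080c00a0800cac00d302050c00708006ac0038000b0000c080092c00824008000090800c2c00b2400500006080062c0008000b9800c8400a28009b0408980098400d2800cb04059800684007280028000b8c00d04009a800a304088c00a0400ca800d304058c00704006a80040000b8000c0400928008a4008800090400c2800ba40058000604006280010000a9800c8000a24009b0007980098000d2400cb00049800680007240018000a8c00d00009a400a300078c00a0000ca400d300048c00700006a40030000a8000c0000924007a4007800090000c2400aa40048000600006240000000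

/-- Packed translations of the involutions of the first class. -/
def inv2v : ℕ := 0x20a2a2c472066a098609241879aac1c920

/-- Packed signed permutations of the involutions of the first class. -/
def inv2s : ℕ := 0x14a52108529484214a5210810842108421

end Cfsg.Agent.AltNine
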