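import Mathlib.GroupTheory.Perm.Fin
import Mathlib.GroupTheory.Sylow
import Mathlib.Tactic.Group
import Mathlib.Algebra.Group.MinimalAxioms

/-!
A model of the normaliser of `3³` in the alternating group of degree nine: pairs of a translation
and one of twenty-four signed block permutations, with tabulated operations.
-/

set_option autoImplicit false

namespace Cfsg.Agent.AltNine

/-- Entry `i` of a packed table of five-bit numbers. -/
def tb (T i : ℕ) : ℕ := (T >>> (5 * i)) &&& 31

/-- Packed sums of translations. -/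
def addT : ℕ := 0xd639495c1f120ca1008e645ab79ca99c698e6a56a7c6032900209907aded2a4f1acb9ac5a93183ca41882041cd7b569396b38525707c5ac704023990419672a671ab56e95a9f1831cd0082641c6524a93c6b35bd96a4c60f735820810731483a4e5ace2f6ac1f16b1ca4ace64106508059c6ad5bce547c60c7352b51907194801071acd6f69527183dcd62d4941cc520c4106b38bdab49c8832840239916ade72a671a6b1ca4ae0f88ca40082641eb7b4a93c6b2c7352b53e30290620810735ed5a4e5ace1cd62d498c1e1008e6410659ca99c6ad5ba92b83e2d638020990719492a4f1acd6f64ad4f8c18e6882041cc520e9396b38bdaab526307b9ac39904194201671ab56f39520f8b58e5256641c6520041c6b35bda549be30639a95a907314831041ace2f6ad2728c1ee6b16a4dab79ca99c69ac7292b83e241942011cc8aded2a4f1acb1cd4ad4f8c06520041320f7b569396b387358b52630794831040839a72a671ab56ea4ae0f8b58e08047320832ca93c6b35bd92b53e30639a0104c838ca4a4e5ace2f6aad498c1ee6b041020e629079c6ad5bce5483e2d6394959cc820ca100b1acd6f69526f8c18e6a56a320e3290020eb38bdab49ca307b9ac5a928398a418820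
/-- Packed negatives of translations. -/
def negT : ℕ := 0x35cc845ea5a6d7ae7589d24428ce830440
/-- Packed action on translations. -/
def actT : ℕ := 0x6d890c9d530bae58e90ba09951bf064c811d21d72ae82864edb11530bf0665469902193c7487e0cdb11d72b2a354c2ba093203ae56d88ca8e3a443277e0cba09530a640bb8ba8a28b159a4cc0f3506ac1e1e69241981ecd24d41d45177168b161e6ab072482cd25dc5ab07981f51461e69a83458a4906a28cc0f879aee2d9a4ab07458a6a0c92074577d50a81360ab66643858f4d71219816ccdb0510e1bea8e8aca81571263d23301b053a2b63d36ccefaa571221c254086605f54b6675c49d15b60a63d254088708cc083559b4ce40c5cbd5e88289ec4e2b230c1abd22e5a0a2cda706a8e40e2b27b126183369eaf4c56506aa2e5bd8939028288c3045cb8354f62757a66d3c5648288e4098606b996bd4851c22fceb074194b4ce9208819d621179d06b5ead730851ce9252d21102d7ae7589d24d732117a96921467418220422f6b98a5a73ac5af59d24741885184408c1face107339acbdaa520d6a4d27210417b55cd61483d671183d07352725a922081cd6460f5a937b5759c5272290683984106b38bdab49ca307b9ac5a928398a418820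
/-- Packed products of signed block permutations. -/
def mulT : ℕ := 0x443214c74254b635cf84653a56d7290c7080436b1cf4a14b8c272ad2f6635cf4254b08043290c79ca11bda954a14b6b1cf214c70044394e30b5eb4214e6004624a16a6b1eead2d78c25308062290e6635ee4256aa56f6846724256a635ee00462214e6b5e9594e116b1ee4a16a290e608062bdab49ca3031c8510c018c253ad2d74a14b6b1cf1880139885a56d7846534256a635ee84653a56d710c0131c8552d0973d8dad2d78c25339885188015a9287b9ac10c2031ca484672a56f6635cf4254b398a418820ad2f68c2726b1ee4a16aa56f68467218820398a47b98d5a9098c272ad2f631ca410c2073dac52d2852d0973d8d94e11b5e9500443214c77b98d5a909bda959ca1108062290e6b5e9594e115a9097b98d18801398859ca11bda9573d8d52d0910c2031ca473dac52d289ca30bdab4290c7080435a9287b9acb5eb494e30214e60046294e30b5eb452d2873dac31c8510c01bdab49ca307b9ac5a928398a418820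
/-- Packed inverses of signed block permutations. -/
def invT : ℕ := 0xbc9cb9d9ea8d5a9a4188398a410c20

/-- Addition of translations. -/
def add (v w : Fin 27) : Fin 27 := ⟨tb addT (v.val * 27 + w.val) % 27, Nat.mod_lt _ (by norm_num)⟩

/-- Negation of translations. -/
def neg (v : Fin 27) : Fin 27 := ⟨tb negT v.val % 27, Nat.mod_lt _ (by norm_num)⟩

/-- The action of a signed block permutation. -/
def act (s : Fin 24) (v : Fin 27) : Fin 27 :=
  ⟨tb actT (s.val * 27 + v.val) % 27, Nat.mod_lt _ (by norm_num)⟩

/-- The product of signed block permutations. -/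
def smul (s t : Fin 24) : Fin 24 := ⟨tb mulT (s.val * 24 + t.val) % 24, Nat.mod_lt _ (by norm_num)⟩

/-- The inverse of a signed block permutation. -/
def sinv (s : Fin 24) : Fin 24 := ⟨tb invT s.val % 24, Nat.mod_lt _ (by norm_num)⟩

theorem add_assoc' : ∀ u v w, add (add u v) w = add u (add v w) := by decide +kernel
theorem zero_add' : ∀ v, add 0 v = v := by decide +kernel
theorem add_zero' : ∀ v, add v 0 = v := by decide +kernel
theorem neg_add' : ∀ v, add (neg v) v = 0 := by decide +kernel
theorem act_one : ∀ v, act 0 v = v := by decide +kernel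
theorem act_zero : ∀ s, act s 0 = 0 := by decide +kernel
theorem act_add : ∀ s v w, act s (add v w) = add (act s v) (act s w) := by decide +kernel
theorem act_smul : ∀ s t v, act (smul s t) v = act s (act t v) := by decide +kernel
theorem smul_assoc' : ∀ r s t, smul (smul r s) t = smul r (smul s t) := by decide +kernel
theorem one_smul' : ∀ s, smul 0 s = s := by decide +kernel
theorem smul_one' : ∀ s, smul s 0 = s := by decide +kernel
theorem sinv_smul : ∀ s, smul (sinv s) s = 0 := by decide +kernel

/-- The model of order `648`. -/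
structure NH where
  /-- The translation. -/
  v : Fin 27
  /-- The signed block permutation. -/
  s : Fin 24
deriving DecidableEq

namespace NH

@[ext]
theorem ext' {a b : NH} (h1 : a.v = b.v) (h2 : a.s = b.s) : a = b := by
  cases a; cases b; simp_all

/-- The components. -/
def equivProd : NH ≃ Fin 27 × Fin 24 where
  toFun a := (a.v, a.s)
  invFun p := ⟨p.1, p.2⟩

instance instFintype_nh : Fintype NH := Fintype.ofEquiv _ equivProd.symm

theorem forall_iff' {p : NH → Prop} : (∀ a, p a) ↔ ∀ v s, p ⟨v, s⟩ :=
  ⟨fun h v s => h ⟨v, s⟩, fun h a => h a.v a.s⟩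

instance instOne_nh : One NH := ⟨⟨0, 0⟩⟩
instance instMul_nh : Mul NH := ⟨fun a b => ⟨add a.v (act a.s b.v), smul a.s b.s⟩⟩
instance instInv_nh : Inv NH := ⟨fun a => ⟨act (sinv a.s) (neg a.v), sinv a.s⟩⟩

theorem one_def : (1 : NH) = ⟨0, 0⟩ := rfl
theorem mul_def (a b : NH) : a * b = ⟨add a.v (act a.s b.v), smul a.s b.s⟩ := rfl
theorem inv_def (a : NH) : a⁻¹ = ⟨act (sinv a.s) (neg a.v), sinv a.s⟩ := rfl

instance instGroup_nh : Group NH := Group.ofLeftAxioms
  (fun a b c => by
    simp only [mul_def]
    ext1
    · simp only [act_add, act_smul, add_assoc']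
    · exact smul_assoc' _ _ _)
  (fun a => by simp only [mul_def, one_def, act_one, zero_add', one_smul'])
  (fun a => by
    simp only [mul_def, one_def, inv_def, sinv_smul, ← act_add, neg_add', act_zero])

end NH

end Cfsg.Agent.AltNine
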